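import Groth.Agent.CurveFF.SepFibre
import Groth.Agent.CurveFF.CanSep
import Groth.Agent.CurveLib.Finite
import Groth.Agent.S10830
import Mathlib.FieldTheory.Perfect

/-!
# Separable points of degree at most two on curves of genus zero
-/

set_option autoImplicit false
set_option backward.isDefEq.respectTransparency false
set_option linter.style.haveILetI false
set_option maxHeartbeats 1600000

universe u

open CategoryTheory CategoryTheory.Limits AlgebraicGeometry TopologicalSpace
open scoped IntermediateField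
open Groth.Agent.CurveFF Groth.Agent.CurveFF.CanSep

attribute [local instance] Curv2.resAlgebra
attribute [local instance] Curv2.stalkAlgebra
attribute [local instance high] FunFld.Place.algRes

noncomputable section

namespace Groth.Agent.SepPointG0Lib

/-- No system of degree `2` with three sections lies in a proper radical subfield. -/
theorem not_le_range {k L K : Type u} [Field k] [Field L] [Field K] [Algebra k L] [Algebra k K]
    (hKT : FunFld.IsFunctionField k L) (hK : FunFld.IsFunctionField k K)
    {M : IntermediateField k K} (hM : M ≠ ⊤) (ε : L ≃ₐ[k] M)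
    {C : FunFld.Divisor k K} (hC0 : 0 ≤ C) (hCd : C.deg ≤ 2) (hCl : 3 ≤ FunFld.ell C)
    (hex : ∀ x ∈ FunFld.L C, x ∈ M) : False := by
  classical
  let ψ : L →ₐ[k] K := M.val.comp ε.toAlgHom
  letI : Algebra L K := ψ.toRingHom.toAlgebra
  haveI : IsScalarTower k L K := IsScalarTower.of_algebraMap_eq fun c => (ψ.commutes c).symm
  obtain ⟨⟨u, hu, hufin⟩, -⟩ := id hKT
  have hψu : Transcendental k (ψ u) := fun h => hu ((isAlgebraic_algHom_iff ψ ψ.injective).1 h)
  haveI := FF.finiteDimensional_adjoin hK hψu
  letI : Algebra k⟮u⟯ K := (ψ.toRingHom.comp (algebraMap k⟮u⟯ _)).toAlgebra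
  haveI : IsScalarTower k⟮u⟯ L K := IsScalarTower.of_algebraMap_eq fun _ => rfl
  haveI : Module.Finite k⟮u⟯ K := by
    let eu : k⟮u⟯ ≃ₐ[k] k⟮ψ u⟯ := (k⟮u⟯.equivMap ψ).trans (IntermediateField.equivOfEq (by
      rw [IntermediateField.adjoin_map, Set.image_singleton]))
    exact Module.Finite.of_equiv_equiv eu.toRingEquiv.symm (RingEquiv.refl K)
      (RingHom.ext fun z => by
        obtain ⟨w, rfl⟩ := eu.surjective z
        simp only [RingHom.coe_comp, RingEquiv.coe_toRingHom, Function.comp_apply]
        rw [show eu.toRingEquiv.symm (eu w) = w from eu.symm_apply_apply w]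
        rfl)
  haveI : FiniteDimensional L K := Module.Finite.of_restrictScalars_finite k⟮u⟯ _ _
  have hr2 : 2 ≤ Module.finrank L K := by
    by_contra hlt
    have h1 : Module.finrank L K = 1 := by
      have := Module.finrank_pos (R := L) (M := K)
      omega
    refine hM (eq_top_iff.2 fun y _ => ?_)
    obtain ⟨w, hw⟩ := (finrank_eq_one_iff_of_nonzero' (1 : K) one_ne_zero).1 h1 y
    rw [Algebra.smul_def, mul_one] at hw
    exact hw ▸ (ε w).2
  haveI := FF.finite_L hK C
  let b := Module.finBasis k (FunFld.L C)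
  unfold FunFld.ell at hCl
  haveI : Nonempty (Fin (Module.finrank k (FunFld.L C))) := ⟨⟨0, by omega⟩⟩
  have hpre : ∀ i, ∃ w, ψ w = (b i : K) := fun i => ⟨ε.symm ⟨_, hex _ (b i).2⟩, by simp [ψ]⟩
  choose φ hφ using hpre
  have hφ0 : ∀ i, φ i ≠ 0 := fun i h => b.ne_zero i (Subtype.ext (by rw [← hφ i, h, map_zero]; rfl))
  have hli : LinearIndependent k φ := by
    refine LinearIndependent.of_comp ψ.toLinearMap ?_
    rw [show ⇑ψ.toLinearMap ∘ φ = Subtype.val ∘ b from funext hφ]
    exact b.linearIndependent.map' (FunFld.L C).subtype (Submodule.ker_subtype _)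
  set D' := FunFld.mapDiv k φ with hD'
  have hconv := FF.mapDiv_eq_conorm (K' := K) hKT φ hK
  have hle : FunFld.mapDiv k (fun i => algebraMap L K (φ i)) ≤ C := by
    intro P
    rw [FF.mapDiv_apply_inf hK, neg_le]
    refine Finset.le_inf' _ _ fun i _ => ?_
    have hne : (b i : K) ≠ 0 := fun h => b.ne_zero i (Subtype.ext h)
    have := (FF.mem_L_iff_ord hne).1 (b i).2 P
    show -C P ≤ P.ord (ψ (φ i))
    rw [hφ i]
    omega
  have hdle := FF.deg_mono hle
  rw [hconv, FF.deg_conorm hKT, ← hD'] at hdle
  have hellD : Module.finrank k (FunFld.L C) ≤ FunFld.ell D' := by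
    haveI := FF.finite_L hKT D'
    have h1 := Submodule.finrank_mono (FF.span_le_L_mapDiv hKT hφ0)
    rw [finrank_span_eq_card hli, Fintype.card_fin] at h1
    exact h1
  obtain ⟨z, hz, hzL⟩ := FF.exists_ne_zero_of_ell_pos (D := D') (by omega)
  set E := D' + FunFld.div k z with hE
  have hE0 : 0 ≤ E := FF.le_add_div_of_mem_L hKT hz hzL
  have hEd : E.deg = D'.deg := by rw [hE, FF.deg_add, FF.deg_div hKT, add_zero]
  have hEl : FunFld.ell E = FunFld.ell D' := by rw [hE, FF.ell_add_div hKT _ hz]
  have hnn := FF.deg_nonneg hE0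
  obtain ⟨n, hn⟩ := Int.eq_ofNat_of_zero_le hnn
  have hkey := FF.ell_le_deg_add_one hKT hE0
  have hmul : 2 * D'.deg ≤ (Module.finrank L K : ℤ) * D'.deg :=
    mul_le_mul_of_nonneg_right (by exact_mod_cast hr2) (hEd ▸ hnn)
  omega

variable {k : Type u} [Field k] {X : Scheme.{u}} [X.Over (Spec (CommRingCat.of k))]
  [IsProper (X ↘ Spec (CommRingCat.of k))] [IsIntegral X] [VBLib.IsRegCurve X]
  [Smooth (X ↘ Spec (CommRingCat.of k))] (hdim : topologicalKrullDim X = 1)
  (h0 : Module.finrank k (Coh.HH X (Coh.structureModule X) 0) = 1) (p : ℕ) [Fact p.Prime] [ExpChar k p]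

include hdim h0 p in
/-- Some function of a system of degree two with three sections is separable. -/
theorem exists_separable {C : FunFld.Divisor k X.functionField} (hC0 : 0 ≤ C)
    (hCd : C.deg ≤ 2) (hCl : 3 ≤ FunFld.ell C) :
    ∃ x ∈ FunFld.L C, x ∉ Set.range (algebraMap k X.functionField) ∧ Algebra.IsSeparable k⟮x⟯ X.functionField := by
  classical
  have hK := isFunctionField k hdim h0
  have hMtop := powField_ne_top hdim h0 p
  obtain ⟨t, ht⟩ := exists_separating_of_smooth (k := k) (X := X) hdim p
  by_cases hex : ∃ x ∈ FunFld.L C, x ∉ powField k X.functionField p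
  · obtain ⟨x, hxC, hxM⟩ := hex
    have hxc : x ∉ Set.range (algebraMap k X.functionField) := fun ⟨c, hc⟩ =>
      hxM (hc ▸ IntermediateField.algebraMap_mem _ c)
    refine ⟨x, hxC, hxc, ?_⟩
    haveI := FF.finiteDimensional_adjoin hK (FF.transcendental_of_not_mem hK hxc)
    set S := separableClosure k⟮x⟯ X.functionField
    haveI : IsPurelyInseparable (S.restrictScalars k) X.functionField :=
      inferInstanceAs (IsPurelyInseparable S X.functionField)
    haveI : FiniteDimensional (S.restrictScalars k) X.functionField :=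
      inferInstanceAs (FiniteDimensional S X.functionField)
    obtain ⟨r, hr⟩ := exists_eq_powField (k := k) p (L := S.restrictScalars k) ht
    rcases r with _ | r
    · refine ⟨fun y => ?_⟩
      have hy : y ∈ S.restrictScalars k := by
        rw [hr]
        exact IntermediateField.subset_adjoin _ _ ⟨y, by simp⟩
      exact mem_separableClosure_iff.1 hy
    · refine absurd ?_ hxM
      have hx' : x ∈ S.restrictScalars k :=
        S.algebraMap_mem (⟨x, IntermediateField.mem_adjoin_simple_self k x⟩ : k⟮x⟯)
      rw [hr] at hx'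
      refine IntermediateField.adjoin_le_iff.2 ?_ hx'
      rintro _ ⟨y, rfl⟩
      exact IntermediateField.subset_adjoin _ _ ⟨y ^ p ^ r,
        show (y ^ p ^ r) ^ p = y ^ p ^ (r + 1) by rw [← pow_mul, pow_succ]⟩
  exfalso
  push Not at hex
  obtain ⟨ε⟩ := exists_algEquiv_twist (k := k) (X := X) p 1
  rw [pow_one] at ε
  have hdT := dim_twist (k := k) (X := X) p 1 hdim
  haveI := VBLib.isRegCurve_of_smooth (X := twist (k := k) p 1 X) k hdT.le
  have h0T := twist_h0 (k := k) (X := X) h0 p
  exact not_le_range (isFunctionField k hdT h0T) hK hMtop ε hC0 hCd hCl hex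


/-- A smooth genus zero curve has a closed point with separable residue field of degree at most two. -/
theorem exists_point (k : Type u) [Field k] (X : Scheme.{u}) [X.Over (Spec (CommRingCat.of k))]
    [IsProper (X ↘ Spec (CommRingCat.of k))] [Smooth (X ↘ Spec (CommRingCat.of k))] [IsIntegral X]
    [VBLib.IsRegCurve X] (hdim : topologicalKrullDim X = 1)
    (h0 : Module.finrank k (Coh.HH X (Coh.structureModule X) 0) = 1) (hg : Curv2.genus k X = 0) :
    ∃ (y : X) (hy : IsClosed ({y} : Set X)), Algebra.IsSeparable k (X.residueField y) ∧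
      (placeOf k hdim y hy).deg ≤ 2 := by
  classical
  haveI := EulerIneqLib.isNoetherian_proper (X := X) k
  have hK := isFunctionField k hdim h0
  have hgen := genus_eq (k := k) hdim h0
  obtain ⟨C₀, hC₀⟩ := FF.exists_canonical hK
  obtain ⟨hl, hd⟩ := FF.canonical_deg hK hC₀
  have hrr := FF.riemann_roch hK hC₀ (-C₀)
  have h2C : FunFld.ell (C₀ - -C₀) = 0 := FF.ell_eq_zero_of_deg_neg hK (by
    rw [FF.deg_sub, FF.deg_neg, hd]; omega)
  rw [h2C, FF.deg_neg, hd] at hrr
  obtain ⟨z, hz, hzL⟩ := FF.exists_ne_zero_of_ell_pos (D := -C₀) (by omega)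
  set C := -C₀ + FunFld.div k z with hC
  have hC0 : 0 ≤ C := FF.le_add_div_of_mem_L hK hz hzL
  have hCd : C.deg = 2 := by rw [hC, FF.deg_add, FF.deg_div hK, FF.deg_neg, hd]; omega
  have hCl : 3 ≤ FunFld.ell C := by rw [hC, FF.ell_add_div hK _ hz]; omega
  have hfin : ∀ (y : X) (hy : IsClosed ({y} : Set X)), Module.Finite k (X.residueField y) := fun y hy => by
    refine Module.finite_of_finrank_pos ?_
    rw [← deg_placeOf hdim hy]
    exact FF.deg_pos hK _
  by_cases hperf : PerfectField k
  · have hne : C ≠ 0 := fun h => by rw [h, FF.deg_zero] at hCd; omega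
    obtain ⟨P, hP⟩ := Finsupp.ne_iff.1 hne
    obtain ⟨y, hy, rfl⟩ := placeOf_surjective hdim P
    haveI := hfin y hy
    refine ⟨y, hy, inferInstance, ?_⟩
    set P := placeOf k hdim y hy
    have h1 : (1 : ℤ) ≤ C P := by
      have := hC0 P
      simp only [Finsupp.coe_zero, Pi.zero_apply] at this hP
      omega
    have h2 : Finsupp.single P (1 : ℤ) ≤ C := fun Q => by
      rcases eq_or_ne Q P with rfl | hQ
      · simpa using h1
      · simpa [Finsupp.single_eq_of_ne hQ] using hC0 Q
    have h3 := FF.deg_mono h2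
    rw [FF.deg_single, one_mul, hCd] at h3
    omega
  haveI : Infinite k := by
    by_contra hfinite
    haveI := not_infinite_iff_finite.1 hfinite
    exact hperf inferInstance
  obtain ⟨p, hp⟩ := ExpChar.exists k
  cases hp with
  | zero => exact absurd (inferInstance : PerfectField k) hperf
  | prime hprime =>
    haveI := Fact.mk hprime
    haveI : ExpChar k p := ExpChar.prime hprime
    obtain ⟨x, hxC, hxc, hsep⟩ := exists_separable hdim h0 p hC0 hCd.le hCl
    have hx : Transcendental k x := FF.transcendental_of_not_mem hK hxc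
    obtain ⟨U, hηU, hU⟩ := SepFibre.exists_open hdim h0 x hsep
    have hbad : ((U : Set X)ᶜ).Finite := by
      refine CurveLib.finite_of_dim_le_zero U.isOpen.isClosed_compl ?_
      have hne : (U : Set X)ᶜ ≠ Set.univ := fun h => (h.ge (Set.mem_univ (genericPoint X))) hηU
      have hlt := S10830.result X (by rw [hdim]; exact ne_of_beq_false rfl) _ U.isOpen.isClosed_compl hne
      rw [hdim] at hlt
      exact ENat.WithBot.lt_add_one_iff.1 (by simpa using hlt)
    have hbadc : {c : k | ∃ (y : X) (hy : IsClosed ({y} : Set X)), y ∉ U ∧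
        (placeOf k hdim y hy).1 (x - algebraMap k X.functionField c) < 1}.Finite := by
      refine (hbad.biUnion (t := fun y => {c : k | ∃ hy : IsClosed ({y} : Set X),
        (placeOf k hdim y hy).1 (x - algebraMap k X.functionField c) < 1}) fun y _ => ?_).subset ?_
      · refine Set.Subsingleton.finite ?_
        rintro c₁ ⟨hy, h₁⟩ c₂ ⟨_, h₂⟩
        by_contra hne
        have h3 := lt_of_le_of_lt (Valuation.map_sub _ _ _) (max_lt h₁ h₂)
        rw [show x - algebraMap k X.functionField c₁ - (x - algebraMap k X.functionField c₂) =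
          algebraMap k X.functionField (c₂ - c₁) by rw [map_sub]; ring, FF.v_algebraMap _ (sub_ne_zero.2 (Ne.symm hne))] at h3
        exact lt_irrefl _ h3
      · rintro c ⟨y, hy, hyU, hlt⟩
        exact Set.mem_biUnion hyU ⟨hy, hlt⟩
    obtain ⟨c, hc⟩ := hbadc.exists_notMem
    set w := x - algebraMap k X.functionField c with hw
    have hwc : w ∉ Set.range (algebraMap k X.functionField) := fun ⟨d, hd⟩ =>
      hxc ⟨d + c, by rw [map_add, hd, hw]; ring⟩
    have hw' : Transcendental k w := FF.transcendental_of_not_mem hK hwc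
    obtain ⟨P, hP⟩ := FF.exists_zero hK hw'
    obtain ⟨y, hy, rfl⟩ := placeOf_surjective hdim P
    set P := placeOf k hdim y hy
    have hw0 : w ≠ 0 := fun h => hw' (h ▸ isAlgebraic_zero)
    have hlt : P.1 w < 1 := hP
    have hord := (FF.v_lt_one_iff P hw0).1 hP
    have hyU : y ∈ U := by
      by_contra h
      exact hc ⟨y, hy, h, hlt⟩
    refine ⟨y, hy, hU y hy hyU c hlt, ?_⟩
    have h1 : Finsupp.single P (1 : ℤ) ≤ FF.zeros (k := k) w := fun Q => by
      rw [FF.zeros_apply hK]
      rcases eq_or_ne Q P with rfl | hQ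
      · rw [Finsupp.single_eq_same]; exact le_max_of_le_left hord
      · rw [Finsupp.single_eq_of_ne hQ]; exact le_max_right _ _
    have hwC : w ∈ FunFld.L C := Submodule.sub_mem _ hxC (by
      rw [Algebra.algebraMap_eq_smul_one]; exact Submodule.smul_mem _ _ (FF.one_mem_L hC0))
    have hwi : Transcendental k w⁻¹ := fun h => hw' (by simpa using h.inv)
    have h2 : FF.zeros (k := k) w⁻¹ ≤ C := fun Q => by
      rw [FF.zeros_apply hK, FF.ord_inv]
      have := (FF.mem_L_iff_ord hw0).1 hwC Q
      have h4 := hC0 Q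
      rw [Finsupp.coe_zero, Pi.zero_apply] at h4
      omega
    have h3 := FF.deg_mono h1
    rw [FF.deg_single, one_mul, FF.deg_zeros hK hw'] at h3
    have h5 := FF.deg_mono h2
    rw [FF.deg_zeros hK hwi, FF.adjoin_inv, hCd] at h5
    show P.deg ≤ _
    omega

end Groth.Agent.SepPointG0Lib
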